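import Mathlib
import Cfsg.Agent.Lib.Helper99.PG.SP1

set_option autoImplicit false

namespace Cfsg.Agent.Lib.Helper99.SPD

open Module LinearMap Finset

theorem sum_pow_fixed {F V : Type*} [Field F] [AddCommGroup V] [Module F V] (β : End F V) (r : ℕ)
    (x : V) (hx : β x = x) : (∑ i ∈ range r, β ^ i) x = (r : F) • x := by
  have h : ∀ i : ℕ, (β ^ i) x = x := by
    intro i
    induction i with
    | zero => simp
    | succ i ih => rw [pow_succ, Module.End.mul_apply, hx, ih]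
  rw [LinearMap.sum_apply, Finset.sum_congr rfl (fun i _ => h i), Finset.sum_const, card_range,
    Nat.cast_smul_eq_nsmul]

/-- K -/
theorem isCompl_ker_range {F V : Type*} [Field F] [AddCommGroup V] [Module F V]
    [FiniteDimensional F V] (σ : End F V) {k : ℕ} (hk : (k : F) ≠ 0) (hσ : σ ^ k = 1) :
    IsCompl (ker (σ - 1)) (range (σ - 1)) := by
  have hdisj : Disjoint (ker (σ - 1)) (range (σ - 1)) := by
    rw [Submodule.disjoint_def]
    rintro x hx ⟨y, rfl⟩
    have hfix : σ ((σ - 1) y) = (σ - 1) y := by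
      rw [LinearMap.mem_ker, LinearMap.sub_apply, Module.End.one_apply, sub_eq_zero] at hx
      exact hx
    have h1 := sum_pow_fixed (F := F) σ k _ hfix
    have h2 : (∑ i ∈ range k, σ ^ i) * (σ - 1) = 0 := by
      rw [geom_sum_mul, hσ, sub_self]
    rw [← Module.End.mul_apply, h2, LinearMap.zero_apply] at h1
    exact (smul_eq_zero.1 h1.symm).resolve_left hk
  refine ⟨hdisj, ?_⟩
  rw [codisjoint_iff]
  apply Submodule.eq_top_of_finrank_eq
  have h1 := Submodule.finrank_sup_add_finrank_inf_eq (ker (σ - 1)) (range (σ - 1))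
  rw [hdisj.eq_bot, finrank_bot, add_zero] at h1
  rw [h1, add_comm]
  exact LinearMap.finrank_range_add_finrank_ker (σ - 1)

theorem eq_zero_or_eq_of_dvd {q r d k : ℕ} (hq : 1 ≤ q) (hr : r.Prime) (hd : 1 ≤ d)
    (hdvd : r ∣ q ^ d - 1) (hprim : ∀ i, 0 < i → i < d → ¬ r ∣ q ^ i - 1)
    (hk : r ∣ q ^ k - 1) (hk2 : k < 2 * d) : k = 0 ∨ k = d := by
  by_contra hcon
  push Not at hcon
  rcases lt_or_gt_of_ne hcon.2 with h | h
  · exact hprim k (by omega) h hk
  · obtain ⟨j, rfl⟩ : ∃ j, k = d + j := ⟨k - d, by omega⟩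
    apply hprim j (by omega) (by omega)
    have hrq : ¬ r ∣ q := by
      intro h'
      have h1 : r ∣ q ^ d := h'.trans (dvd_pow_self _ (by omega))
      have h2 : 1 ≤ q ^ d := Nat.one_le_pow _ _ hq
      have h3 : r ∣ 1 := by
        have := (Nat.dvd_sub h1 hdvd)
        rwa [Nat.sub_sub_self h2] at this
      exact hr.one_lt.ne' (Nat.dvd_one.1 h3)
    have h1 : q ^ (d + j) - 1 - (q ^ d - 1) = q ^ d * (q ^ j - 1) := by
      have h2 : 1 ≤ q ^ d := Nat.one_le_pow _ _ hq
      have h3 : 1 ≤ q ^ j := Nat.one_le_pow _ _ hq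
      rw [pow_add, Nat.mul_sub, mul_one]
      omega
    have h2 : r ∣ q ^ d * (q ^ j - 1) := by
      rw [← h1]
      exact Nat.dvd_sub hk hdvd
    rcases (Nat.Prime.dvd_mul hr).1 h2 with h3 | h3
    · exact absurd (hr.dvd_of_dvd_pow h3) hrq
    · exact h3

/-- P -/
theorem ppd_decomp {F V : Type*} [Field F] [Fintype F] [AddCommGroup V] [Module F V]
    [FiniteDimensional F V] {r d : ℕ} (hr : r.Prime) (hd : 1 ≤ d)
    (hdvd : r ∣ Fintype.card F ^ d - 1)
    (hprim : ∀ i, 0 < i → i < d → ¬ r ∣ Fintype.card F ^ i - 1)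
    (σ : End F V) (hσ : σ ^ r = 1) (hσ1 : σ ≠ 1) (hdim : finrank F V < 2 * d) :
    finrank F (range (σ - 1)) = d ∧
    ∀ W' : Submodule F V, W' ≤ range (σ - 1) → (∀ x ∈ W', σ x ∈ W') →
      W' = ⊥ ∨ W' = range (σ - 1) := by
  have : Fact r.Prime := ⟨hr⟩
  have hq : 1 ≤ Fintype.card F := Fintype.card_pos
  have hrq : ¬ r ∣ Fintype.card F := by
    intro h'
    have h1 : r ∣ Fintype.card F ^ d := h'.trans (dvd_pow_self _ (by omega))
    have h2 : 1 ≤ Fintype.card F ^ d := Nat.one_le_pow _ _ hq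
    have h3 : r ∣ 1 := by
      have := (Nat.dvd_sub h1 hdvd)
      rwa [Nat.sub_sub_self h2] at this
    exact hr.one_lt.ne' (Nat.dvd_one.1 h3)
  have hrF : (r : F) ≠ 0 := Cfsg.Agent.Lib.Helper99.PG.natCast_ne_zero_of_not_dvd hr hrq
  have hK := isCompl_ker_range σ hrF hσ
  have key : ∀ W' : Submodule F V, W' ≤ range (σ - 1) → (∀ x ∈ W', σ x ∈ W') →
      finrank F W' = 0 ∨ finrank F W' = d := by
    intro W' hW' hinv
    have h1 := Cfsg.Agent.Lib.Helper65.UnipCent.modEq_of_invariant σ hσ W' hinv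
    have h2 : W' ⊓ ker (σ - 1) = ⊥ := by
      rw [eq_bot_iff]
      intro x hx
      have : x ∈ ker (σ - 1) ⊓ range (σ - 1) := ⟨hx.2, hW' hx.1⟩
      rw [hK.inf_eq_bot] at this
      exact this
    rw [h2, finrank_bot, pow_zero] at h1
    have h3 : r ∣ Fintype.card F ^ finrank F W' - 1 :=
      (Nat.modEq_iff_dvd' (Nat.one_le_pow _ _ hq)).1 h1.symm
    exact eq_zero_or_eq_of_dvd hq hr hd hdvd hprim h3
      (lt_of_le_of_lt (Submodule.finrank_le W') hdim)
  have hinvW : ∀ x ∈ range (σ - 1), σ x ∈ range (σ - 1) := by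
    rintro _ ⟨y, rfl⟩
    refine ⟨σ y, ?_⟩
    simp only [LinearMap.sub_apply, Module.End.one_apply, map_sub]
  have hWd : finrank F (range (σ - 1)) = d := by
    rcases key _ le_rfl hinvW with h | h
    · exfalso
      apply hσ1
      have h1 : range (σ - 1) = ⊥ := Submodule.finrank_eq_zero.1 h
      rw [LinearMap.range_eq_bot, sub_eq_zero] at h1
      exact h1
    · exact h
  refine ⟨hWd, ?_⟩
  intro W' hW' hinv
  rcases key W' hW' hinv with h | h
  · left
    exact Submodule.finrank_eq_zero.1 h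
  · right
    exact Submodule.eq_of_le_of_finrank_eq hW' (by rw [h, hWd])

end Cfsg.Agent.Lib.Helper99.SPD
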