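import Mathlib
import Cfsg.Agent.Lib.Helper48.SpExist

set_option autoImplicit false

namespace Cfsg.Agent.Lib.Helper99.SPD

open Module LinearMap Cfsg.Agent.Lib.Helper48

/-- T -/
theorem unip_trivial_of_dim_le_two {F V : Type*} [Field F] [AddCommGroup V] [Module F V]
    [FiniteDimensional F V]
    (h2 : (2 : F) ≠ 0) (B : LinearMap.BilinForm F V) (hsymm : ∀ x y, B x y = B y x)
    (u : End F V) (hu : IsoB B u) (hnil : IsNilpotent (u - 1))
    (C : Submodule F V) (hC : finrank F C ≤ 2) (hinv : ∀ x ∈ C, u x ∈ C)
    (hnd : ∀ x ∈ C, (∀ y ∈ C, B x y = 0) → x = 0) : ∀ x ∈ C, u x = x := by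
  set ν := u - 1 with hν
  have hνx : ∀ x, ν x = u x - x := fun x => by
    rw [hν, LinearMap.sub_apply, Module.End.one_apply]
  have hux : ∀ x, u x = x + ν x := fun x => by rw [hνx]; abel
  have hνC : ∀ x ∈ C, ν x ∈ C := fun x hx => by
    rw [hνx]; exact C.sub_mem (hinv x hx) hx
  -- ν² = 0 on C
  have hsq : ∀ x ∈ C, ν (ν x) = 0 := by
    intro x hx
    let ν' : End F C := ν.restrict hνC
    have hpow : ∀ (k : ℕ) (y : C), (((ν' ^ k) y : C) : V) = (ν ^ k) y := by
      intro k
      induction k with
      | zero => intro y; simp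
      | succ k ih =>
        intro y
        rw [pow_succ, Module.End.mul_apply, ih, pow_succ, Module.End.mul_apply]
        rfl
    have hnil' : IsNilpotent ν' := by
      obtain ⟨k, hk⟩ := hnil
      refine ⟨k, ?_⟩
      apply LinearMap.ext
      intro y
      apply Subtype.ext
      rw [hpow, hk]
      rfl
    have h1 : ν' ^ finrank F C = 0 := by
      obtain ⟨k, hk⟩ := hnil'
      have h5 := Module.End.ker_pow_le_ker_pow_finrank ν' k
      rw [hk, LinearMap.ker_zero, top_le_iff, LinearMap.ker_eq_top] at h5
      exact h5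
    have h3 : ν' ^ 2 = 0 := by
      obtain ⟨j, hj⟩ := Nat.exists_eq_add_of_le hC
      rw [hj, pow_add, h1, zero_mul]
    have h4 := hpow 2 ⟨x, hx⟩
    rw [h3] at h4
    rw [pow_two, Module.End.mul_apply] at h4
    exact h4.symm
  have hB1 : ∀ x ∈ C, B (ν x) (ν x) = 0 := by
    intro x hx
    have h := hu (ν x) x
    rw [hux (ν x), hsq x hx, add_zero, hux x, map_add] at h
    exact add_eq_left.1 h
  have hB2 : ∀ x ∈ C, B (ν x) x = 0 := by
    intro x hx
    have h := hu x x
    rw [hux x, map_add, map_add, LinearMap.add_apply, LinearMap.add_apply, hB1 x hx,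
      hsymm x (ν x)] at h
    have h3 : (2 : F) * B (ν x) x = 0 := by linear_combination h
    exact (mul_eq_zero.1 h3).resolve_left h2
  intro x hx
  by_contra hne
  have he0 : ν x ≠ 0 := by
    rw [hνx, sub_ne_zero]
    exact hne
  apply he0
  apply hnd _ (hνC x hx)
  -- x, ν x span C
  have hli : LinearIndependent F ![x, ν x] := by
    rw [LinearIndependent.pair_iff]
    intro a b hab
    have h1 : a • ν x = 0 := by
      have := congrArg ν hab
      rw [map_add, map_smul, map_smul, hsq x hx, smul_zero, add_zero, map_zero] at this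
      exact this
    have ha : a = 0 := (smul_eq_zero.1 h1).resolve_right he0
    rw [ha, zero_smul, zero_add] at hab
    exact ⟨ha, (smul_eq_zero.1 hab).resolve_right he0⟩
  have hspan : Submodule.span F (Set.range ![x, ν x]) = C := by
    apply Submodule.eq_of_le_of_finrank_le
    · rw [Submodule.span_le]
      rintro _ ⟨i, rfl⟩
      fin_cases i
      · exact hx
      · exact hνC x hx
    · rw [finrank_span_eq_card hli]
      simpa using hC
  intro y hy
  rw [← hspan] at hy
  induction hy using Submodule.span_induction with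
  | mem z hz =>
    obtain ⟨i, rfl⟩ := hz
    fin_cases i
    · exact hB2 x hx
    · exact hB1 x hx
  | zero => simp
  | add a b _ _ ha hb => rw [map_add, ha, hb, add_zero]
  | smul c a _ ha => rw [map_smul, ha, smul_zero]

end Cfsg.Agent.Lib.Helper99.SPD
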