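import Mathlib
import Cfsg.Agent.Lib.Helper99.SPD.KP
import Cfsg.Agent.Lib.Helper99.SPD.T

set_option autoImplicit false

namespace Cfsg.Agent.Lib.Helper99.SPD

open Module LinearMap Cfsg.Agent.Lib.Helper48

section gen
variable {F V : Type*} [Field F] [AddCommGroup V] [Module F V]

theorem mem_ker_sub_one {f : End F V} {x : V} : x ∈ ker (f - 1) ↔ f x = x := by
  rw [LinearMap.mem_ker, LinearMap.sub_apply, Module.End.one_apply, sub_eq_zero]

theorem ker_inv {f g : End F V} (h : Commute f g) {x : V} (hx : x ∈ ker (f - 1)) :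
    g x ∈ ker (f - 1) := by
  rw [mem_ker_sub_one] at hx ⊢
  have : f (g x) = g (f x) := by
    rw [← Module.End.mul_apply, h.eq, Module.End.mul_apply]
  rw [this, hx]

theorem range_inv {f g : End F V} (h : Commute f g) {x : V} (hx : x ∈ range (f - 1)) :
    g x ∈ range (f - 1) := by
  obtain ⟨y, rfl⟩ := hx
  refine ⟨g y, ?_⟩
  have : f (g y) = g (f y) := by
    rw [← Module.End.mul_apply, h.eq, Module.End.mul_apply]
  simp only [LinearMap.sub_apply, Module.End.one_apply, this, map_sub]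

theorem pow_apply_fixed {f : End F V} {x : V} (hx : f x = x) (j : ℕ) : (f ^ j) x = x := by
  induction j with
  | zero => simp
  | succ j ih => rw [pow_succ, Module.End.mul_apply, hx, ih]

theorem pow_mem_of_inv {f : End F V} {W : Submodule F V} (hW : ∀ x ∈ W, f x ∈ W) {x : V}
    (hx : x ∈ W) (j : ℕ) : (f ^ j) x ∈ W := by
  induction j with
  | zero => simpa using hx
  | succ j ih => rw [pow_succ', Module.End.mul_apply]; exact hW _ ih

theorem isoB_pow {B : LinearMap.BilinForm F V} {f : End F V} (hf : IsoB B f) (k : ℕ) :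
    IsoB B (f ^ k) := by
  induction k with
  | zero => intro x w; simp
  | succ k ih =>
    intro x w
    rw [pow_succ, Module.End.mul_apply, Module.End.mul_apply, ih, hf]

theorem orth_ker_range {B : LinearMap.BilinForm F V} {f : End F V} (hf : IsoB B f) {x y : V}
    (hx : x ∈ ker (f - 1)) (hy : y ∈ range (f - 1)) : B x y = 0 := by
  rw [mem_ker_sub_one] at hx
  obtain ⟨z, rfl⟩ := hy
  rw [LinearMap.sub_apply, Module.End.one_apply, map_sub]
  conv_lhs => rw [← hx]
  rw [hf, hx, sub_self]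

/-- a nilpotent map kills a nonzero vector of any nonzero invariant subspace; more precisely,
from `a ∈ W`, `a ≠ 0` we reach the last nonzero `N ^ j a`. -/
theorem exists_last {N : End F V} (hN : IsNilpotent N) {W : Submodule F V}
    (hW : ∀ x ∈ W, N x ∈ W) {a : V} (ha : a ∈ W) (ha0 : a ≠ 0) :
    ∃ w ∈ W, w ≠ 0 ∧ N w = 0 := by
  classical
  obtain ⟨k, hk⟩ := hN
  have hex : ∃ j, (N ^ j) a = 0 := ⟨k, by rw [hk]; rfl⟩
  set j := Nat.find hex with hj
  have hj0 : (N ^ j) a = 0 := Nat.find_spec hex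
  have hjpos : j ≠ 0 := by
    intro h
    rw [h] at hj0
    exact ha0 (by simpa using hj0)
  obtain ⟨i, hi⟩ : ∃ i, j = i + 1 := ⟨j - 1, by omega⟩
  refine ⟨(N ^ i) a, pow_mem_of_inv hW ha i, ?_, ?_⟩
  · exact Nat.find_min hex (by omega)
  · rw [← Module.End.mul_apply, ← pow_succ', ← hi]
    exact hj0

end gen

theorem core {F V : Type*} [Field F] [Fintype F] [AddCommGroup V] [Module F V]
    [FiniteDimensional F V] (h2 : (2 : F) ≠ 0)
    (B : LinearMap.BilinForm F V) (hsymm : ∀ x y, B x y = B y x)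
    (hnd : ∀ x, (∀ y, B x y = 0) → x = 0)
    {n r : ℕ} (hn : 3 ≤ n) (hdim : finrank F V = 2 * n + 1)
    (hr : r.Prime) (hdvd : r ∣ Fintype.card F ^ (n - 1) + 1)
    (hprim : ∀ i, 0 < i → i < 2 * (n - 1) → ¬ r ∣ Fintype.card F ^ i - 1)
    (s u : End F V) (hs : IsoB B s) (hu : IsoB B u) (hsu : Commute s u)
    (hsord : ∀ j, s ^ j = 1 ↔ (Fintype.card F ^ (n - 1) + 1) ∣ j)
    (hnil : IsNilpotent (u - 1)) (hu1 : u ≠ 1) (hfix : ∃ v, v ≠ 0 ∧ s v = v) :
    ∃ U : Submodule F V, finrank F U = 3 ∧ (∀ x ∈ U, s x = x) ∧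
      (∀ x, x ∉ U → ∀ j, (s ^ j) x = x → (Fintype.card F ^ (n - 1) + 1) ∣ j) ∧
      (∀ x ∈ U, (∀ y ∈ U, B x y = 0) → x = 0) ∧ ∃ e ∈ U, e ≠ 0 ∧ B e e = 0 := by
  classical
  set q := Fintype.card F with hq
  set m := q ^ (n - 1) + 1 with hm
  have hq1 : 1 < q := Fintype.one_lt_card
  obtain ⟨m', hm'⟩ := hdvd
  have hm'pos : 0 < m' := by
    rcases Nat.eq_zero_or_pos m' with h | h
    · rw [h, mul_zero] at hm'
      omega
    · exact h
  -- arithmetic facts
  have hrq : ¬ r ∣ q := by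
    intro h
    have h1 : r ∣ q ^ (n - 1) := h.trans (dvd_pow_self _ (by omega))
    have h3 : r ∣ 1 := (Nat.dvd_add_right h1).1 ⟨m', hm'⟩
    exact hr.one_lt.ne' (Nat.dvd_one.1 h3)
  have hrF : (r : F) ≠ 0 := Cfsg.Agent.Lib.Helper99.PG.natCast_ne_zero_of_not_dvd hr hrq
  have hmF : (m : F) ≠ 0 := by
    have hqF : (q : F) = 0 := by rw [hq]; exact Nat.cast_card_eq_zero F
    rw [hm]
    push_cast
    rw [hqF, zero_pow (by omega), zero_add]
    exact one_ne_zero
  have hdvd2 : r ∣ q ^ (2 * (n - 1)) - 1 := by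
    have h1 : q ^ (2 * (n - 1)) - 1 = (q ^ (n - 1) + 1) * (q ^ (n - 1) - 1) := by
      have h3 : 1 ≤ q ^ (n - 1) := Nat.one_le_pow _ _ (by omega)
      obtain ⟨t, ht⟩ : ∃ t, q ^ (n - 1) = t + 1 := ⟨q ^ (n - 1) - 1, by omega⟩
      rw [mul_comm 2, pow_mul, ht]
      have : (t + 1) ^ 2 = (t + 1 + 1) * t + 1 := by ring
      rw [this]
      simp
    rw [h1]
    exact Dvd.dvd.mul_right ⟨m', hm'⟩ _
  -- the element of order r
  set s' := s ^ m' with hs'
  have hs'r : s' ^ r = 1 := by
    rw [hs', ← pow_mul, mul_comm, ← hm', hsord]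
  have hs'1 : s' ≠ 1 := by
    intro h
    have h1 := Nat.le_of_dvd hm'pos ((hsord m').1 h)
    rw [hm'] at h1
    have := hr.two_le
    nlinarith
  have hss' : Commute s' s := (Commute.refl s).pow_left m'
  have hus' : Commute s' u := hsu.pow_left m'
  have hs'iso : IsoB B s' := isoB_pow hs m'
  obtain ⟨hWdim, hirr⟩ := ppd_decomp hr (d := 2 * (n - 1)) (by omega) hdvd2 hprim s' hs'r hs'1
    (by omega)
  have hK := isCompl_ker_range s' hrF hs'r
  have hUdim : finrank F (ker (s' - 1)) = 3 := by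
    have h := LinearMap.finrank_range_add_finrank_ker (s' - 1)
    rw [hdim, hWdim] at h
    omega
  set U := ker (s' - 1) with hU
  set W := range (s' - 1) with hW
  have hWne : W ≠ ⊥ := by
    intro h
    rw [h, finrank_bot] at hWdim
    omega
  have hdec : ∀ v : V, ∃ a ∈ U, ∃ b ∈ W, a + b = v := by
    intro v
    have : v ∈ U ⊔ W := by rw [hK.sup_eq_top]; exact Submodule.mem_top
    exact Submodule.mem_sup.1 this
  have hUW : ∀ x ∈ U, ∀ y ∈ W, B x y = 0 := fun x hx y hy => orth_ker_range hs'iso hx hy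
  -- invariant subspaces of W
  have hirr' : ∀ f : End F V, Commute s' f → (∃ w ∈ W, w ≠ 0 ∧ f w = w) → ∀ w ∈ W, f w = w := by
    intro f hf ⟨w, hw, hw0, hfw⟩
    have hcomm : Commute f s' := hf.symm
    rcases hirr (W ⊓ ker (f - 1)) inf_le_left (by
      intro x hx
      exact ⟨range_inv (Commute.refl s') hx.1, ker_inv hcomm hx.2⟩) with h | h
    · exfalso
      apply hw0
      have : w ∈ W ⊓ ker (f - 1) := ⟨hw, mem_ker_sub_one.2 hfw⟩
      rw [h] at this
      exact (Submodule.mem_bot F).1 this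
    · intro x hx
      have : x ∈ W ⊓ ker (f - 1) := by rw [h]; exact hx
      exact mem_ker_sub_one.1 this.2
  -- u is trivial on W
  have huW : ∀ w ∈ W, u w = w := by
    apply hirr' u hus'
    obtain ⟨a, ha, ha0⟩ := Submodule.exists_mem_ne_zero_of_ne_bot hWne
    obtain ⟨w, hw, hw0, hw1⟩ := exists_last hnil (W := W) (by
      intro x hx
      rw [LinearMap.sub_apply, Module.End.one_apply]
      exact W.sub_mem (range_inv hus' hx) hx) ha ha0
    exact ⟨w, hw, hw0, mem_ker_sub_one.1 hw1⟩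
  -- the fixed space of s
  have hK2 := isCompl_ker_range s hmF ((hsord m).2 dvd_rfl)
  set C := ker (s - 1) with hC
  set R := range (s - 1) with hR
  have hCU : C ≤ U := by
    intro x hx
    exact mem_ker_sub_one.2 (pow_apply_fixed (mem_ker_sub_one.1 hx) m')
  have hCne : C ≠ ⊥ := by
    obtain ⟨v, hv0, hv⟩ := hfix
    intro h
    have : v ∈ C := mem_ker_sub_one.2 hv
    rw [h] at this
    exact hv0 ((Submodule.mem_bot F).1 this)
  have hCR : ∀ x ∈ C, ∀ y ∈ R, B x y = 0 := fun x hx y hy => orth_ker_range hs hx hy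
  have hdec2 : ∀ v : V, ∃ a ∈ C, ∃ b ∈ U ⊓ R, ∃ c ∈ W, a + b + c = v := by
    intro v
    obtain ⟨a, ha, b, hb, hab⟩ := hdec v
    have : a ∈ C ⊔ R := by rw [hK2.sup_eq_top]; exact Submodule.mem_top
    obtain ⟨a₁, ha₁, a₂, ha₂, ha12⟩ := Submodule.mem_sup.1 this
    refine ⟨a₁, ha₁, a₂, ⟨?_, ha₂⟩, b, hb, by rw [ha12, hab]⟩
    have : a₂ = a - a₁ := by rw [← ha12]; abel
    rw [this]
    exact U.sub_mem ha (hCU ha₁)
  have hCeq : C = U := by
    by_contra hne
    have hlt : C < U := lt_of_le_of_ne hCU hne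
    have hCdim : finrank F C ≤ 2 := by
      have := Submodule.finrank_lt_finrank_of_lt hlt
      omega
    have hlt' : U ⊓ R < U := by
      refine lt_of_le_of_ne inf_le_left ?_
      intro h
      apply hCne
      rw [eq_bot_iff]
      intro x hx
      have h1 : x ∈ U ⊓ R := by rw [h]; exact hCU hx
      have h3 : x ∈ C ⊓ R := ⟨hx, h1.2⟩
      rw [hK2.inf_eq_bot] at h3
      exact h3
    have hC'dim : finrank F (U ⊓ R : Submodule F V) ≤ 2 := by
      have := Submodule.finrank_lt_finrank_of_lt hlt'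
      omega
    have h1 : ∀ x ∈ C, u x = x := by
      apply unip_trivial_of_dim_le_two h2 B hsymm u hu hnil C hCdim
      · intro x hx
        exact ker_inv hsu hx
      · intro x hx hxy
        apply hnd
        intro v
        obtain ⟨a, ha, b, hb, c, hc, rfl⟩ := hdec2 v
        rw [map_add, map_add, hxy a ha, hCR x hx b hb.2, hUW x (hCU hx) c hc]
        simp
    have h3 : ∀ x ∈ U ⊓ R, u x = x := by
      apply unip_trivial_of_dim_le_two h2 B hsymm u hu hnil (U ⊓ R) hC'dim
      · intro x hx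
        exact ⟨ker_inv hus' hx.1, range_inv hsu hx.2⟩
      · intro x hx hxy
        apply hnd
        intro v
        obtain ⟨a, ha, b, hb, c, hc, rfl⟩ := hdec2 v
        rw [map_add, map_add, hxy b hb, hsymm x a, hCR a ha x hx.2, hUW x hx.1 c hc]
        simp
    apply hu1
    apply LinearMap.ext
    intro v
    obtain ⟨a, ha, b, hb, c, hc, rfl⟩ := hdec2 v
    rw [map_add, map_add, h1 a ha, h3 b hb, huW c hc, Module.End.one_apply]
  have hsU : ∀ x ∈ U, s x = x := by
    intro x hx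
    rw [← hCeq] at hx
    exact mem_ker_sub_one.1 hx
  refine ⟨U, hUdim, hsU, ?_, ?_, ?_⟩
  · intro x hx j hj
    obtain ⟨a, ha, b, hb, rfl⟩ := hdec x
    have hb0 : b ≠ 0 := by
      intro h
      apply hx
      rw [h, add_zero]
      exact ha
    have hjb : (s ^ j) b = b := by
      rw [map_add, pow_apply_fixed (hsU a ha)] at hj
      exact add_left_cancel hj
    have hall := hirr' (s ^ j) (hss'.pow_right j) ⟨b, hb, hb0, hjb⟩
    rw [← hsord]
    apply LinearMap.ext
    intro v
    obtain ⟨a', ha', b', hb', rfl⟩ := hdec v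
    rw [map_add, pow_apply_fixed (hsU a' ha'), hall b' hb', Module.End.one_apply]
  · intro x hx hxy
    apply hnd
    intro v
    obtain ⟨a, ha, b, hb, rfl⟩ := hdec v
    rw [map_add, hxy a ha, hUW x hx b hb, add_zero]
  · -- singular vector
    have hex : ∃ a ∈ U, u a ≠ a := by
      by_contra hcon
      push Not at hcon
      apply hu1
      apply LinearMap.ext
      intro v
      obtain ⟨a, ha, b, hb, rfl⟩ := hdec v
      rw [map_add, hcon a ha, huW b hb, Module.End.one_apply]
    obtain ⟨a, ha, hua⟩ := hex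
    have hinvU : ∀ x ∈ U, (u - 1) x ∈ U := by
      intro x hx
      rw [LinearMap.sub_apply, Module.End.one_apply]
      exact U.sub_mem (ker_inv hus' hx) hx
    obtain ⟨e, he, he0, he1⟩ := exists_last hnil (W := U ⊓ range (u - 1)) (by
      intro x hx
      exact ⟨hinvU x hx.1, LinearMap.mem_range_self _ _⟩) (a := (u - 1) a)
      ⟨hinvU a ha, LinearMap.mem_range_self _ _⟩ (by
        rw [LinearMap.sub_apply, Module.End.one_apply, sub_ne_zero]
        exact hua)
    exact ⟨e, he.1, he0, orth_ker_range hu he1 he.2⟩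

end Cfsg.Agent.Lib.Helper99.SPD
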