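import Mathlib
import Cfsg.Agent.Lib.Helper99.SPD.Core
import Cfsg.Agent.Lib.Helper99.SPD.SGN
import Cfsg.Agent.Lib.Helper99.SPD.UV
import Cfsg.Agent.Lib.Helper18.OrthSign
import Cfsg.Agent.Lib.Helper18.OmegaFrames
import Cfsg.Agent.Lib.Helper49.HypPairs
import Cfsg.Agent.S2904

set_option autoImplicit false

namespace Cfsg.Agent.Lib.Helper99.SPD

open Module LinearMap QuadraticMap Cfsg.Agent.Lib.Helper48 Cfsg.Agent.Lib.Helper18
  Cfsg.Agent.Lib.Helper18.OmegaCenter Cfsg.Agent.Lib.Helper49 Cfsg.Agent.Lib.Helper50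
  Cfsg.Agent.Lib.Helper50.Quad

/-- the linear map of an isometry -/
def opT {ι : Type} [Fintype ι] [DecidableEq ι] {F : Type*} [Field F] (Q : (ι → F) → F) :
    ↥(Cfsg.isometryGroup F Q) →* End F (ι → F) where
  toFun g := Matrix.mulVecLin (mat g)
  map_one' := by
    apply LinearMap.ext
    intro x
    simp [mat]
  map_mul' g h := by
    apply LinearMap.ext
    intro x
    simp [mat, Matrix.mulVec_mulVec]

theorem opT_apply {ι : Type} [Fintype ι] [DecidableEq ι] {F : Type*} [Field F] (Q : (ι → F) → F)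
    (g : ↥(Cfsg.isometryGroup F Q)) (x : ι → F) : opT Q g x = act g x := rfl

theorem opT_eq_one {ι : Type} [Fintype ι] [DecidableEq ι] {F : Type*} [Field F] (Q : (ι → F) → F)
    (g : ↥(Cfsg.isometryGroup F Q)) : opT Q g = 1 ↔ g = 1 := by
  constructor
  · intro h
    apply ext_act
    intro x
    rw [← opT_apply, h, act_one]
    rfl
  · rintro rfl
    exact map_one _

open scoped Classical in
theorem no_order {ι : Type} [Fintype ι] [DecidableEq ι] {F : Type*} [Field F] [Fintype F]
    (h2 : (2 : F) ≠ 0) (hqodd : Odd (Fintype.card F)) (p : ℕ) [Fact p.Prime]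
    [CharP F p] {n : ℕ} (hn : 3 ≤ n) (Q : QuadraticForm F (ι → F))
    (hnd : (polarBilin Q).Nondegenerate) (hι : Fintype.card ι = 2 * n + 1)
    (hcard : Nat.card {v : ι → F // Q v = 1} = Fintype.card F ^ (2 * n) + Fintype.card F ^ n)
    (g : ↥(Cfsg.isometryGroup F ⇑Q)) (hg : g ∈ Cfsg.Omega F ⇑Q) :
    orderOf g ≠ p * (Fintype.card F ^ (n - 1) + 1) := by
  intro hord
  have hp : p.Prime := Fact.out
  set q := Fintype.card F with hq
  set m := q ^ (n - 1) + 1 with hm
  have hq1 : 1 < q := Fintype.one_lt_card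
  have hmpos : 0 < m := by omega
  have hne : Nonempty ι := by
    rw [← Fintype.card_pos_iff]
    omega
  -- Zsigmondy prime
  obtain ⟨r, hr, hrdvd, hprim⟩ := Cfsg.Agent.S2904.result q (2 * (n - 1)) hq1 (by omega)
    (by
      rintro ⟨h, -⟩
      rw [h] at hqodd
      exact absurd hqodd (by decide))
    (by
      rintro ⟨h, -⟩
      omega)
  have hrm : r ∣ m := by
    have h1 : q ^ (2 * (n - 1)) - 1 = (q ^ (n - 1) - 1) * (q ^ (n - 1) + 1) := by
      obtain ⟨t, ht⟩ : ∃ t, q ^ (n - 1) = t + 1 :=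
        ⟨q ^ (n - 1) - 1, by have := Nat.one_le_pow (n - 1) q (by omega); omega⟩
      rw [mul_comm 2, pow_mul, ht]
      have : (t + 1) ^ 2 = t * (t + 1 + 1) + 1 := by ring
      rw [this]
      simp
    rw [h1] at hrdvd
    rcases (Nat.Prime.dvd_mul hr).1 hrdvd with h | h
    · exact absurd h (hprim (n - 1) (by omega) (by omega))
    · exact h
  -- the two elements
  set B : LinearMap.BilinForm F (ι → F) := polarBilin Q with hB
  have hBp : ∀ x y, B x y = polar Q x y := fun _ _ => rfl
  have hsymm : ∀ x y, B x y = B y x := fun x y => by rw [hBp, hBp, polar_comm]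
  have hnd' : ∀ x, (∀ y, B x y = 0) → x = 0 := hnd.1
  have hiso : ∀ h : ↥(Cfsg.isometryGroup F ⇑Q), IsoB B (opT ⇑Q h) := by
    intro h x y
    rw [hBp, hBp, opT_apply, opT_apply, polar_act]
  set s := opT ⇑Q (g ^ p) with hs
  set u := opT ⇑Q (g ^ m) with hu
  have hsu : Commute s u := by
    rw [hs, hu]
    exact (((Commute.refl g).pow_left p).pow_right m).map (opT ⇑Q)
  have hsord : ∀ j, s ^ j = 1 ↔ m ∣ j := by
    intro j
    rw [hs, ← map_pow, opT_eq_one, ← pow_mul, ← orderOf_dvd_iff_pow_eq_one, hord]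
    exact Nat.mul_dvd_mul_iff_left hp.pos
  have hup : u ^ p = 1 := by
    rw [hu, ← map_pow, opT_eq_one, ← pow_mul, ← orderOf_dvd_iff_pow_eq_one, hord, mul_comm]
  have hu1 : u ≠ 1 := by
    rw [hu, Ne, opT_eq_one, ← orderOf_dvd_iff_pow_eq_one, hord]
    intro h
    have h1 := Nat.le_of_dvd hmpos h
    have := hp.two_le
    nlinarith
  have : CharP (End F (ι → F)) p :=
    charP_of_injective_algebraMap (FaithfulSMul.algebraMap_injective F (End F (ι → F))) p
  have hnil : IsNilpotent (u - 1) := by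
    refine ⟨p, ?_⟩
    rw [sub_pow_char_of_commute p (Commute.one_right u), hup, one_pow, sub_self]
  have hgp : g ^ p ∈ Cfsg.Omega F ⇑Q := Subgroup.pow_mem _ hg p
  have hfix : ∃ v, v ≠ 0 ∧ s v = v := by
    apply exists_fixed_of_det_one h2 B hnd' (mat (g ^ p))
    · intro x y
      exact hiso (g ^ p) x y
    · exact det_of_mem_Omega Q _ hgp
    · rw [hι]
      exact ⟨n, rfl⟩
  have hdim : finrank F (ι → F) = 2 * n + 1 := by
    rw [Module.finrank_fintype_fun_eq_card, hι]
  obtain ⟨U, hUdim, hsU, hsemi, hUnd, e, heU, he0, hee⟩ :=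
    core h2 B hsymm hnd' hn hdim hr hrm hprim s u (hiso _) (hiso _) hsu hsord hnil hu1 hfix
  -- counting
  have hQe : Q e = 0 := by
    rw [hBp, polar_self] at hee
    have h3 : (2 : F) * Q e = 0 := by simpa using hee
    exact (mul_eq_zero.1 h3).resolve_left h2
  have hUnd' : Nondeg Q U := by
    intro w hw hw0
    by_contra hcon
    push Not at hcon
    exact hw0 (hUnd w hw hcon)
  have hcU := card_U h2 Q U hUdim hUnd' e heU he0 hQe 1 one_ne_zero
  -- the permutation
  set σ := permHom ⇑Q 1 (g ^ p) with hσ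
  have hσpow : ∀ (j : ℕ) (x : {x : ι → F // Q x = 1}), (((σ ^ j) x : {x : ι → F // Q x = 1}) : ι → F)
      = (s ^ j) x.1 := by
    intro j x
    rw [hσ, ← map_pow, permHom_apply, hs, ← map_pow, opT_apply]
  have hσfix : ∀ x : {x : ι → F // Q x = 1}, σ x = x ↔ x.1 ∈ U := by
    intro x
    constructor
    · intro h
      by_contra hx
      have h1 := hsemi x.1 hx 1 (by
        rw [← hσpow, pow_one, h])
      have h3 : m = 1 := Nat.dvd_one.1 h1
      have : 1 ≤ q ^ (n - 1) := Nat.one_le_pow _ _ (by omega)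
      omega
    · intro h
      apply Subtype.ext
      have := hσpow 1 x
      rw [pow_one, pow_one] at this
      rw [this, hsU _ h]
  have hmeven : Even m := by
    rw [hm]
    exact (hqodd.pow).add_one
  obtain ⟨k, hk1, hk2⟩ := sign_semiregular σ hmeven (by
      rw [hσ, ← map_pow, ← pow_mul, ← hord, pow_orderOf_eq_one, map_one]) (by
      intro x hx j hj
      apply hsemi x.1 (fun h => hx ((hσfix x).2 h)) j
      rw [← hσpow, hj])
  have hsgn : sgn ⇑Q 1 (g ^ p) = 1 := by
    have := Abelianization.commutator_subset_ker (sgn ⇑Q 1) hgp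
    exact this
  have hsgn' : Equiv.Perm.sign σ = 1 := hsgn
  have hsupp : σ.support.card = Nat.card {v : ι → F // Q v = 1 ∧ ¬ v ∈ U} := by
    rw [← Fintype.card_coe, ← Nat.card_eq_fintype_card]
    apply Nat.card_congr
    exact
      { toFun := fun x => ⟨x.1.1, x.1.2, fun h => (Equiv.Perm.mem_support.1 x.2) ((hσfix _).2 h)⟩
        invFun := fun v => ⟨⟨v.1, v.2.1⟩, Equiv.Perm.mem_support.2 (fun h => v.2.2 ((hσfix _).1 h))⟩
        left_inv := fun _ => rfl
        right_inv := fun _ => rfl }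
  have hsplit := card_split (fun v : ι → F => Q v = 1) (fun v => v ∈ U)
  have haC : aC Q U 1 = Nat.card {v : ι → F // Q v = 1 ∧ v ∈ U} := by
    rw [aC]
    exact Nat.card_congr (Equiv.subtypeEquivRight (fun v => and_comm))
  rw [hcard, ← haC, ← hsupp, hk1] at hsplit
  have hkodd : Odd k := by
    apply arith hqodd hq1 hn
    rcases hcU with h | h
    · left
      rw [← h, hsplit, add_comm]
    · right
      rw [← h, hsplit, add_comm]
  rw [hk2, hkodd.neg_one_pow] at hsgn'
  exact absurd hsgn' (by decide)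

end Cfsg.Agent.Lib.Helper99.SPD
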